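import Mathlib.LinearAlgebra.ExteriorPower.Basis
import Mathlib.RingTheory.Ideal.Quotient.Operations

/-! Exterior powers over `A` of `(A/K)^a`. -/

set_option autoImplicit false

universe u

open exteriorPower

namespace Groth.Agent.KosTor31

variable {A : Type u} [CommRing A]

theorem wedge_free (K : Ideal A) (a n : ℕ) (hn : 1 ≤ n) :
    Nonempty (⋀[A]^n (Fin a → A ⧸ K) ≃ₗ[A] (Fin (a.choose n) → A ⧸ K)) := by
  classical
  let B := A ⧸ K
  let V := Fin a → B
  let S := Set.powersetCard (Fin a) n
  let b : Module.Basis (Fin a) B V := Pi.basisFun B (Fin a)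
  let alt : V [⋀^Fin n]→ₗ[A] ⋀[B]^n V :=
    { toMultilinearMap := (exteriorPower.ιMulti B n).toMultilinearMap.restrictScalars A
      map_eq_zero_of_eq' := (exteriorPower.ιMulti B n (M := V)).map_eq_zero_of_eq' }
  let ev : ⋀[B]^n V →ₗ[A] (S → B) := (b.exteriorPower n).equivFun.toLinearMap.restrictScalars A
  let Φ : ⋀[A]^n V →ₗ[A] (S → B) := ev.comp (alternatingMapLinearEquiv alt)
  let e : S → ⋀[A]^n V := ιMulti_family A n (fun j => b j)
  have hΦ : ∀ s, Φ (e s) = Pi.single s 1 := fun s => by
    show ev (alternatingMapLinearEquiv alt (ιMulti A n _)) = _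
    rw [alternatingMapLinearEquiv_apply_ιMulti]
    show (b.exteriorPower n).equivFun (ιMulti_family B n b s) = _
    funext t
    rw [Module.Basis.equivFun_apply, exteriorPower.basis_repr, Finsupp.single_apply, Pi.single_apply]
    simp [eq_comm]
  let π : (S → A) →ₗ[A] ⋀[A]^n V := Fintype.linearCombination A e
  have hbspan : Submodule.span A (Set.range fun j => b j) = ⊤ := by
    rw [eq_top_iff]
    intro v _
    rw [← b.sum_repr v]
    refine Submodule.sum_mem _ fun j _ => ?_
    obtain ⟨x, hx⟩ := Ideal.Quotient.mk_surjective (b.repr v j)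
    rw [show b.repr v j = algebraMap A B x from hx.symm, algebraMap_smul]
    exact Submodule.smul_mem _ _ (Submodule.subset_span ⟨j, rfl⟩)
  have hπ : Function.Surjective π := by
    rw [← LinearMap.range_eq_top, Fintype.range_linearCombination]
    exact ιMulti_family_span_of_span A hbspan
  have hkill : ∀ (c : A), c ∈ K → ∀ s, c • e s = 0 := fun c hc s => by
    show c • ιMulti A n _ = 0
    let i₀ : Fin n := ⟨0, hn⟩
    generalize ((fun j => b j) ∘ _ : Fin n → V) = v
    have h0 : c • v i₀ = 0 := by
      rw [← algebraMap_smul B c (v i₀), show algebraMap A B c = 0 from Ideal.Quotient.eq_zero_iff_mem.2 hc, zero_smul]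
    have h := (ιMulti A n (M := V)).map_update_smul v i₀ c (v i₀)
    rw [Function.update_eq_self, h0, AlternatingMap.map_update_zero] at h
    exact h.symm
  let q : (S → A) →ₗ[A] (S → B) := (Algebra.linearMap A B).compLeft S
  have hqπ : Φ.comp π = q := by
    refine LinearMap.pi_ext' fun s => LinearMap.ext_ring ?_
    simp only [LinearMap.comp_apply, LinearMap.single_apply, π, Fintype.linearCombination_apply_single,
      one_smul, hΦ]
    funext t
    by_cases h : t = s
    · subst h; simp [q]
    · simp [q, Pi.single_eq_of_ne h]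
  have hker : LinearMap.ker π = LinearMap.ker q := by
    ext c
    constructor
    · intro h
      rw [LinearMap.mem_ker] at h ⊢
      rw [← hqπ, LinearMap.comp_apply, h, map_zero]
    · intro h
      rw [LinearMap.mem_ker, Fintype.linearCombination_apply]
      refine Finset.sum_eq_zero fun s _ => hkill _ (Ideal.Quotient.eq_zero_iff_mem.1 ?_) s
      exact congrFun (LinearMap.mem_ker.1 h) s
  have hq : Function.Surjective q := fun w =>
    ⟨fun s => (Ideal.Quotient.mk_surjective (w s)).choose,
      funext fun s => (Ideal.Quotient.mk_surjective (w s)).choose_spec⟩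
  have hcard : Fintype.card S = a.choose n := by
    rw [← Nat.card_eq_fintype_card, Set.powersetCard.card, Nat.card_fin]
  exact ⟨((LinearMap.quotKerEquivOfSurjective π hπ).symm.trans
    ((Submodule.quotEquivOfEq _ _ hker).trans (LinearMap.quotKerEquivOfSurjective q hq))).trans
    (LinearEquiv.funCongrLeft A B (Fintype.equivFinOfCardEq hcard).symm)⟩

theorem wedge_congr {M N : Type u} [AddCommGroup M] [Module A M] [AddCommGroup N] [Module A N]
    (e : M ≃ₗ[A] N) (n : ℕ) : Nonempty (⋀[A]^n M ≃ₗ[A] ⋀[A]^n N) :=
  ⟨LinearEquiv.ofLinearMap (exteriorPower.map n e.toLinearMap) (exteriorPower.map n e.symm.toLinearMap)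
    (by rw [← exteriorPower.map_comp, LinearEquiv.comp_symm, exteriorPower.map_id])
    (by rw [← exteriorPower.map_comp, LinearEquiv.symm_comp, exteriorPower.map_id])⟩

end Groth.Agent.KosTor31
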