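import Groth.Agent.KosPow31.Basic
import Groth.Agent.Koszul19.Coefficients
import Groth.Agent.DTen43.LocTor
import Groth.Agent.KosTor31.Wedge

/-! `Tor` of two complete intersections with a common part. -/

set_option autoImplicit false
set_option backward.isDefEq.respectTransparency.types false
set_option linter.style.haveILetI false

universe u

open CategoryTheory CategoryTheory.Limits MonoidalCategory

attribute [local instance] HasDerivedCategory.standard

namespace Groth.Agent.KosTor31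

open DR39 Koszul19

variable {A : Type u} [CommRing A]

noncomputable def toZero {f : A} {K L : CochainComplex (ModuleCat.{u} A) ℤ} (c : ConeData f K L)
    (h : ∀ (q : ℤ) (x : (K.X q : Type u)), f • x = 0) : ConeData (0 : A) K L where
  e := c.e
  e_d_fst := c.e_d_fst
  e_d_snd q q₁ q₂ hq hq₁ x := by
    rw [c.e_d_snd q q₁ q₂ hq hq₁ x, h, zero_smul]

theorem smul_tensorCx_zero {M : ModuleCat.{u} A} {y : A} (hy : ∀ m : (M : Type u), y • m = 0)
    (K : DRing.Cx A) (q : ℤ) (x : ((DRing.tensorCx K M).X q : Type u)) : y • x = 0 := by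
  change TensorProduct A (K.X q : Type u) (M : Type u) at x
  show y • x = 0
  induction x with
  | zero => rw [smul_zero]
  | add a b ha hb => rw [smul_add, ha, hb, add_zero]
  | tmul k m => rw [← TensorProduct.tmul_smul, hy, TensorProduct.tmul_zero]

theorem equiv_append_zero (M : ModuleCat.{u} A) (xs ys : List A)
    (hy : ∀ y ∈ ys, ∀ m : (M : Type u), y • m = 0) (m : ℤ) :
    Nonempty (((DRing.tensorCx (Koszul.koszul A (ys ++ xs)) M).homology m : Type u) ≃ₗ[A]
      ((s : Fin ys.length → Bool) →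
        ((DRing.tensorCx (Koszul.koszul A xs) M).homology (m + weight s) : Type u))) := by
  induction ys generalizing m with
  | nil =>
    exact ⟨(homologyCongr _ (by simp)).trans
      (LinearEquiv.funUnique (Fin 0 → Bool) A
        ((DRing.tensorCx (Koszul.koszul A xs) M).homology (m + 0) : Type u)).symm |>.trans
      (LinearEquiv.piCongrRight fun s => homologyCongr _ (by simp [weight]))⟩
  | cons y ys ih =>
    have hy' : ∀ z ∈ ys, ∀ m : (M : Type u), z • m = 0 := fun z hz => hy z (List.mem_cons_of_mem _ hz)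
    obtain ⟨e1⟩ := ih hy' (m + 1)
    obtain ⟨e0⟩ := ih hy' m
    have w1 : ∀ s : Fin ys.length → Bool, m + 1 + weight s = m + weight (Fin.cons true s) := fun s => by
      rw [weight, weight, Fin.sum_univ_succ]
      simp only [Fin.cons_zero, Fin.cons_succ, if_true]
      ring
    have w0 : ∀ s : Fin ys.length → Bool, m + weight s = m + weight (Fin.cons false s) := fun s => by
      rw [weight, weight, Fin.sum_univ_succ]
      simp only [Fin.cons_zero, Fin.cons_succ, Bool.false_eq_true, if_false]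
      ring
    let c : ConeData (0 : A) (DRing.tensorCx (Koszul.koszul A (ys ++ xs)) M)
        (DRing.tensorCx (Koszul.koszul A (y :: (ys ++ xs))) M) :=
      toZero ((consData y (ys ++ xs)).tensor M) fun q x => smul_tensorCx_zero (hy y List.mem_cons_self) _ q x
    exact ⟨((c.homologyEquiv m).trans
      ((e1.trans (LinearEquiv.piCongrRight fun s => homologyCongr _ (w1 s))).prodCongr
        (e0.trans (LinearEquiv.piCongrRight fun s => homologyCongr _ (w0 s))))).trans
      (splitEquiv (fun r => (DRing.tensorCx (Koszul.koszul A xs) M).homology r)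
        (fun t => m + weight t)).symm⟩

/-- keep the coordinates of weight `i` -/
theorem equiv_pi_weight (G : ℤ → ModuleCat.{u} A) (hG : ∀ r, r ≠ 0 → IsZero (G r)) (a i : ℕ) :
    Nonempty (((s : Fin a → Bool) → (G (-(i : ℤ) + weight s) : Type u)) ≃ₗ[A]
      (Fin (a.choose i) → (G 0 : Type u))) := by
  classical
  let T := {s : Fin a → Bool // weight s = (i : ℤ)}
  let h0 : ∀ x : T, -(i : ℤ) + weight x.1 = 0 := fun x => by rw [x.2]; ring
  let φ : ((s : Fin a → Bool) → (G (-(i : ℤ) + weight s) : Type u)) →ₗ[A] (T → (G 0 : Type u)) :=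
    LinearMap.pi fun x => (castEquiv G (h0 x)).toLinearMap.comp (LinearMap.proj x.1)
  have hφ : Function.Bijective φ := by
    constructor
    · intro v w h
      funext s
      by_cases hs : weight s = (i : ℤ)
      · exact (castEquiv G (h0 ⟨s, hs⟩)).injective (congrFun h ⟨s, hs⟩)
      · haveI := ModuleCat.subsingleton_of_isZero (hG _ (show -(i : ℤ) + weight s ≠ 0 by omega))
        exact Subsingleton.elim _ _
    · intro w
      refine ⟨fun s => if hs : weight s = (i : ℤ) then (castEquiv G (h0 ⟨s, hs⟩)).symm (w ⟨s, hs⟩) else 0, ?_⟩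
      funext x
      show castEquiv G (h0 x) (dite _ _ _) = w x
      rw [dif_pos x.2, LinearEquiv.apply_symm_apply]
  exact ⟨(LinearEquiv.ofBijective φ hφ).trans
    (LinearEquiv.funCongrLeft A _ (Fintype.equivFinOfCardEq (card_weight a i)).symm)⟩

theorem isZero_homology_of_kR (l h : List A) (hl : KR l) (hlh : KR (l ++ h)) (r : ℤ) (hr : r ≠ 0) :
    IsZero ((DRing.tensorCx (Koszul.koszul A h) (ModuleCat.of A (A ⧸ Ideal.ofList l))).homology r) := by
  let N := ModuleCat.of A (A ⧸ Ideal.ofList l)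
  let E : DRing.Cx A := Koszul.koszul A h
  have hE : DRing.IsKFlat A E := DTen43.LocTor.kflat_koszul h
  haveI : QuasiIso (DTen43.LocTor.aug l) := ⟨fun n => by
    by_cases hn : n = 0
    · subst hn; exact DTen43.LocTor.quasiIsoAt_aug l
    · rw [quasiIsoAt_iff_exactAt' _ _ (HomologicalComplex.exactAt_single_obj (ComplexShape.up ℤ) 0 _ n hn)]
      exact (HomologicalComplex.exactAt_iff_isZero_homology _ _).2 ((isZero_homology_iff_ex _ n).2 (hl n hn))⟩
  haveI : QuasiIso (DTen43.LocTor.aug l ▷ E) := quasiIso_whiskerRight hE _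
  obtain ⟨e⟩ := Koszul43.nonempty_tensor_iso_append l h
  have hz : IsZero (((Koszul.koszul A l : DRing.Cx A) ⊗ E).homology r) :=
    ((isZero_homology_iff_ex _ r).2 (hlh r hr)).of_iso ((HomologicalComplex.homologyFunctor _ _ r).mapIso e)
  have e1 : (DRing.tensorCx E N).homology r ≅ (sgl N ⊗ E).homology r := by
    haveI : IsIso (symm' E (sgl N)) := by
      haveI : ∀ n, IsIso ((symm' E (sgl N)).f n) := fun n =>
        ⟨(symm' (sgl N) E).f n, symmX_symmX E (sgl N) n, symmX_symmX (sgl N) E n⟩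
      exact HomologicalComplex.Hom.isIso_of_components _
    exact (HomologicalComplex.homologyFunctor _ _ r).mapIso
      (@asIso _ _ _ _ (toSingleTensor E N) (isIso_toSingleTensor E N) ≪≫ asIso (symm' E (sgl N)))
  exact (hz.of_iso (isoOfQuasiIsoAt (DTen43.LocTor.aug l ▷ E) r).symm).of_iso e1

theorem homology_zero_cyclic (h : List A) (K : Ideal A) :
    ∃ Q : Ideal A, Nonempty (((DRing.tensorCx (Koszul.koszul A h) (ModuleCat.of A (A ⧸ K))).homology 0 : Type u) ≃ₗ[A] A ⧸ Q) := by
  set C := DRing.tensorCx (Koszul.koszul A h) (ModuleCat.of A (A ⧸ K))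
  haveI h1 := subsingleton_X h 1 (Or.inl one_pos)
  have hC1 : IsZero (C.X 1) := by
    haveI : Subsingleton (C.X 1 : Type u) := by
      change Subsingleton (TensorProduct A ((Koszul.koszul A h).X 1 : Type u) (A ⧸ K))
      infer_instance
    exact ModuleCat.isZero_of_subsingleton _
  haveI : IsIso (C.iCycles 0) := C.isIso_iCycles 0 1 (by simp) (hC1.eq_of_tgt _ _)
  let p : C.X 0 ⟶ C.homology 0 := inv (C.iCycles 0) ≫ C.homologyπ 0
  have hp : Function.Surjective p.hom := (ModuleCat.epi_iff_surjective p).1 inferInstance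
  let g : A →ₗ[A] (C.X 0 : Type u) := LinearMap.toSpanSingleton A
    (TensorProduct A ((Koszul.koszul A h).X 0 : Type u) (A ⧸ K)) (((eps h).symm 1) ⊗ₜ[A] 1)
  have hg : Function.Surjective g := by
    intro z
    change TensorProduct A ((Koszul.koszul A h).X 0 : Type u) (A ⧸ K) at z
    induction z with
    | zero => exact ⟨0, map_zero _⟩
    | add a b ha hb =>
      obtain ⟨c, hc⟩ := ha
      obtain ⟨d, hd⟩ := hb
      refine ⟨c + d, ?_⟩
      rw [map_add, hc, hd]
      rfl
    | tmul x y =>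
      obtain ⟨y, rfl⟩ := Ideal.Quotient.mk_surjective y
      refine ⟨y * eps h x, ?_⟩
      show (y * eps h x) • (((eps h).symm 1) ⊗ₜ[A] (1 : A ⧸ K)) = x ⊗ₜ[A] Ideal.Quotient.mk K y
      rw [show Ideal.Quotient.mk K y = y • (1 : A ⧸ K) by rw [Algebra.smul_def, mul_one]; rfl,
        TensorProduct.tmul_smul, mul_smul, TensorProduct.smul_tmul', ← map_smul (eps h).symm, smul_eq_mul,
        mul_one, LinearEquiv.symm_apply_apply]
  exact ⟨LinearMap.ker (p.hom.comp g), ⟨(LinearMap.quotKerEquivOfSurjective (p.hom.comp g) (hp.comp hg)).symm⟩⟩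

/-- the `Tor` groups -/
theorem tor_equiv (f g h : List A) (hfg : KR (f ++ g)) (hfh : KR (f ++ h)) (hfgh : KR (f ++ g ++ h)) :
    ∃ Q : Ideal A, ∀ i : ℕ, 1 ≤ i →
      Nonempty ((((Tor (ModuleCat.{u} A) i).obj (ModuleCat.of A (A ⧸ Ideal.ofList (f ++ g)))).obj
        (ModuleCat.of A (A ⧸ Ideal.ofList (f ++ h))) : Type u) ≃ₗ[A] (Fin (f.length.choose i) → A ⧸ Q)) := by
  let M := ModuleCat.of A (A ⧸ Ideal.ofList (f ++ g))
  obtain ⟨Q, ⟨eQ⟩⟩ := homology_zero_cyclic h (Ideal.ofList (f ++ g))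
  refine ⟨Q, fun i hi => ?_⟩
  obtain ⟨q, rfl⟩ : ∃ q, i = q + 1 := ⟨i - 1, by omega⟩
  obtain ⟨F, hFb, hFp, ⟨eF⟩, ⟨φ⟩⟩ :=
    LA18.exists_tor_iso_tensorCx M (ModuleCat.of A (A ⧸ Ideal.ofList (f ++ h))) q
  obtain ⟨eK⟩ := KosPow31.koszul_iso_quotient (f ++ h) hfh
  obtain ⟨E, hEv, hE, ⟨eE⟩⟩ := DR39.exists_free_res (A := A) (A ⧸ Ideal.ofList (f ++ g))
  have hKb : DRing.VanishesAbove (Koszul.koszul A (f ++ h)) 0 := fun i hi => by
    haveI := Koszul19.subsingleton_X (f ++ h) i (Or.inl hi)
    exact ModuleCat.isZero_of_subsingleton _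
  obtain ⟨b1⟩ := DR39.balance (M := ModuleCat.of A (A ⧸ Ideal.ofList (f ++ h))) (N := M)
    hKb (KosPow31.projective_X (f ++ h)) eK hEv (fun i => proj_of_FR (hE i)) eE (-((q + 1 : ℕ) : ℤ))
  obtain ⟨b2⟩ := DR39.balance (M := ModuleCat.of A (A ⧸ Ideal.ofList (f ++ h))) (N := M)
    hFb hFp eF hEv (fun i => proj_of_FR (hE i)) eE (-((q + 1 : ℕ) : ℤ))
  have hy : ∀ y ∈ f, ∀ m : (M : Type u), y • m = 0 := fun y hy m => by
    obtain ⟨m, rfl⟩ := Ideal.Quotient.mk_surjective m
    exact (Submodule.Quotient.mk_eq_zero _).2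
      (Ideal.mul_mem_right _ _ (Ideal.subset_span (List.mem_append_left g hy)))
  obtain ⟨e2⟩ := equiv_append_zero M h f hy (-((q + 1 : ℕ) : ℤ))
  obtain ⟨e3⟩ := equiv_pi_weight (fun r => (DRing.tensorCx (Koszul.koszul A h) M).homology r)
    (isZero_homology_of_kR (f ++ g) h hfg hfgh) f.length (q + 1)
  exact ⟨(φ ≪≫ b2 ≪≫ b1.symm).toLinearEquiv.trans (e2.trans (e3.trans (LinearEquiv.piCongrRight fun _ => eQ)))⟩

end Groth.Agent.KosTor31
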